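import Groth.Agent.CohTopLib.Misc

/-! # Locally exact complexes of flasque sheaves -/

set_option autoImplicit false
set_option linter.style.haveILetI false

noncomputable section

universe u

open CategoryTheory CategoryTheory.Limits TopologicalSpace Opposite

namespace Groth.Agent.SoftSheaf

variable {X : TopCat.{u}} (T : ℕ → CohTop.Ab X) (d : ∀ n, T n ⟶ T (n + 1)) (hdd : ∀ n, d n ≫ d (n + 1) = 0)
  (hflasque : ∀ n, TopCat.Sheaf.IsFlasque (T n))
  (h0 : ∀ (U : Opens X) (x : (T 0).obj.obj (op U)), (d 0).hom.app (op U) x = 0 →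
    ∀ s ∈ U, ∃ (V : Opens X) (hV : V ≤ U), s ∈ V ∧ (T 0).obj.map (homOfLE hV).op x = 0)
  (h1 : ∀ (n : ℕ) (U : Opens X) (x : (T (n + 1)).obj.obj (op U)), (d (n + 1)).hom.app (op U) x = 0 →
    ∀ s ∈ U, ∃ (V : Opens X) (hV : V ≤ U), s ∈ V ∧ ∃ t, (d n).hom.app (op V) t = (T (n + 1)).obj.map (homOfLE hV).op x)

/-- the lift of the differential to the next kernel -/
def toKer (n : ℕ) : T n ⟶ kernel (d (n + 1)) := kernel.lift _ (d n) (hdd n)

lemma mem_kernel (n : ℕ) (U : Opens X) (x : (T n).obj.obj (op U)) (hx : (d n).hom.app (op U) x = 0) :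
    ∃ z, (kernel.ι (d n)).hom.app (op U) z = x :=
  let S : ShortComplex (CohTop.Ab X) := ShortComplex.mk (kernel.ι (d n)) (d n) (kernel.condition _)
  TopCat.Sheaf.sections_exact_of_left_exact (S := S)
    (ShortComplex.exact_of_f_is_kernel _ (kernelIsKernel _)) (inferInstanceAs (Mono (kernel.ι (d n)))) x hx

include h1 in
lemma epi_toKer (n : ℕ) : Epi (toKer T d hdd n) := by
  refine (CategoryTheory.Sheaf.isLocallySurjective_iff_epi' (φ := toKer T d hdd n)).1 ?_
  refine (TopCat.Presheaf.isLocallySurjective_iff (toKer T d hdd n).hom).2 fun U z s hs => ?_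
  have hz : (d (n + 1)).hom.app (op U) ((kernel.ι (d (n + 1))).hom.app (op U) z) = 0 :=
    ConcreteCategory.congr_hom (congrArg (fun m : kernel (d (n + 1)) ⟶ T (n + 1 + 1) => m.hom.app (op U))
      (kernel.condition (d (n + 1)))) z
  obtain ⟨V, hV, hsV, t, ht⟩ := h1 n U _ hz s hs
  refine ⟨V, hV, ⟨t, ?_⟩, hsV⟩
  apply QCohBase.CovSystem.app_injective_of_mono (kernel.ι (d (n + 1)))
  refine ((ConcreteCategory.congr_hom (congrArg (fun m : T n ⟶ T (n + 1) => m.hom.app (op V))
    (kernel.lift_ι (d (n + 1)) (d n) (hdd n))) t).trans ht).trans ?_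
  exact (ConcreteCategory.congr_hom ((kernel.ι (d (n + 1))).hom.naturality (homOfLE hV).op) z).symm

include h0 in
lemma isZero_kernel_zero (U : Opens X) (z : (kernel (d 0)).obj.obj (op U)) : z = 0 := by
  apply QCohBase.CovSystem.app_injective_of_mono (kernel.ι (d 0))
  refine Eq.trans ?_ (map_zero _).symm
  refine TopCat.Presheaf.section_ext (T 0) U _ _ fun s hs => ?_
  obtain ⟨V, hV, hsV, h⟩ := h0 U _ (ConcreteCategory.congr_hom
    (congrArg (fun m : kernel (d 0) ⟶ T (0 + 1) => m.hom.app (op U)) (kernel.condition (d 0))) z) s hs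
  refine (TopCat.Presheaf.germ_res_apply (T 0).obj (homOfLE hV) s hsV _).symm.trans ?_
  refine Eq.trans (congrArg _ h) ?_
  exact (map_zero _).trans (map_zero _).symm

/-- the sequence of a kernel and the next one -/
def kSC (n : ℕ) : ShortComplex (CohTop.Ab X) :=
  ShortComplex.mk (kernel.ι (d n)) (toKer T d hdd n)
    (by rw [← cancel_mono (kernel.ι (d (n + 1))), Category.assoc, toKer, kernel.lift_ι, kernel.condition, zero_comp])

lemma shortExact_toKer (n : ℕ) (he : Epi (toKer T d hdd n)) : (kSC T d hdd n).ShortExact where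
  exact := by
    refine ShortComplex.exact_of_f_is_kernel _ (KernelFork.IsLimit.ofι _ _
      (fun {W} g hg => kernel.lift (d n) g (by
        have h2 : (g ≫ toKer T d hdd n) ≫ kernel.ι (d (n + 1)) = 0 ≫ kernel.ι (d (n + 1)) := congrArg (· ≫ kernel.ι (d (n + 1))) hg
        refine Eq.trans ((congrArg (g ≫ ·) (kernel.lift_ι (d (n + 1)) (d n) (hdd n))).symm) ?_
        exact ((Category.assoc _ _ _).symm.trans h2).trans zero_comp))
      (fun g hg => kernel.lift_ι _ _ _) (fun g hg m hm => (cancel_mono (kernel.ι (d n))).1 (hm.trans (kernel.lift_ι (d n) g _).symm)))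
  mono_f := inferInstanceAs (Mono (kernel.ι (d n)))
  epi_g := he

include hflasque h0 h1 hdd in
lemma isFlasque_kernel : ∀ n, TopCat.Sheaf.IsFlasque (kernel (d n))
  | 0 => ⟨fun {U V} i => (AddCommGrpCat.epi_iff_surjective _).2 fun z =>
      ⟨0, (map_zero _).trans (isZero_kernel_zero T d h0 V.unop z).symm⟩⟩
  | n + 1 => by
    have hS := shortExact_toKer T d hdd n (epi_toKer T d hdd h1 n)
    haveI : TopCat.Sheaf.IsFlasque (kSC T d hdd n).X₁ := isFlasque_kernel n
    haveI : TopCat.Sheaf.IsFlasque (kSC T d hdd n).X₂ := hflasque n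
    exact TopCat.Sheaf.IsFlasque.of_shortExact_of_isFlasque₁₂ hS

include hflasque h0 h1 hdd in
/-- A locally exact complex of flasque sheaves is exact on sections. -/
theorem sections_exact (U : Opens X) :
    (∀ x : (T 0).obj.obj (op U), (d 0).hom.app (op U) x = 0 → x = 0) ∧
    (∀ (n : ℕ) (x : (T (n + 1)).obj.obj (op U)), (d (n + 1)).hom.app (op U) x = 0 →
      ∃ t, (d n).hom.app (op U) t = x) := by
  refine ⟨fun x hx => ?_, fun n x hx => ?_⟩
  · obtain ⟨z, rfl⟩ := mem_kernel T d 0 U x hx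
    rw [isZero_kernel_zero T d h0 U z, map_zero]
  · obtain ⟨z, rfl⟩ := mem_kernel T d (n + 1) U x hx
    have hS := shortExact_toKer T d hdd n (epi_toKer T d hdd h1 n)
    haveI : TopCat.Sheaf.IsFlasque (kSC T d hdd n).X₁ := isFlasque_kernel T d hdd hflasque h0 h1 n
    obtain ⟨t, rfl⟩ := FlasqueAcyclic.sections_surjective_of_isFlasque hS U z
    exact ⟨t, (ConcreteCategory.congr_hom (congrArg (fun m : T n ⟶ T (n + 1) => m.hom.app (op U))
      (kernel.lift_ι (d (n + 1)) (d n) (hdd n))) t).symm⟩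

end Groth.Agent.SoftSheaf
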