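import Groth.Agent.SoftSheaf.Soft

/-! # Restriction to compact subsets -/

set_option autoImplicit false
set_option linter.style.haveILetI false

noncomputable section

universe u

open CategoryTheory CategoryTheory.Limits TopologicalSpace Opposite
open scoped Topology

namespace Groth.Agent.SoftSheaf

open Godement

variable {X Z : TopCat.{u}} {i : Z ⟶ X} {F : CohTop.Ab X} {F' : CohTop.Ab Z} (φ : Coh i F F')
  (hφ : ∀ z, Function.Bijective (φ.stalk z)) (hi : Topology.IsInducing i) (hinj : Function.Injective i)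

include hφ hi in
lemma exists_section_near {V : Opens Z} (σ : F'.obj.obj (op V)) (z : Z) (hz : z ∈ V) :
    ∃ (W : Opens X) (s : F.obj.obj (op W)), i z ∈ W ∧ ∀ z' (h : i z' ∈ W), ∃ h' : z' ∈ V,
      φ.stalk z' (germ F W (i z') h s) = germ F' V z' h' σ := by
  obtain ⟨t, ht⟩ := (hφ z).2 (germ F' V z hz σ)
  obtain ⟨U, hU, s, rfl⟩ := exists_germ_eq F t
  rw [Coh.stalk_germ φ U z hU] at ht
  obtain ⟨W₁, hW₁, h₁, h₂, e⟩ := exists_res_eq _ hz ht
  obtain ⟨O, hO, hOW⟩ := hi.isOpen_iff.1 W₁.2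
  have hmem : ∀ z', i z' ∈ O ↔ z' ∈ W₁ := fun z' => Set.ext_iff.1 hOW z'
  let W : Opens X := U ⊓ ⟨O, hO⟩
  refine ⟨W, F.obj.map (homOfLE (inf_le_left : W ≤ U)).op s, ⟨hU, (hmem z).2 hW₁⟩, fun z' h => ?_⟩
  have hz' := (hmem z').1 h.2
  refine ⟨h₂ hz', ?_⟩
  rw [germ_res, Coh.stalk_germ φ U z' h.1, ← germ_res F' h₁ z' hz', e, germ_res]

include hφ hi hinj in
/-- sections on a compact subset of the source extend to the target -/
theorem exists_extend_image {K : Set Z} (hK : IsCompact K)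
    (hsep : ∀ x ∈ i '' K, ∀ y ∈ i '' K, x ≠ y → Disjoint (𝓝 x) (𝓝 y))
    (t : ∀ z, z ∈ K → CohTop.stalk F' z) (ht : IsSec F' K t) :
    ∃ (U : Opens X) (hU : i '' K ⊆ U) (s : F.obj.obj (op U)),
      ∀ z (hz : z ∈ K), φ.stalk z (germ F U (i z) (hU ⟨z, hz, rfl⟩) s) = t z hz := by
  have hT : ∀ x ∈ i '' K, ∃ T : CohTop.stalk F x, ∀ z (hz : z ∈ K) (h : i z = x), φ.stalk z (h ▸ T) = t z hz := by
    rintro _ ⟨z, hz, rfl⟩
    obtain ⟨T, hT⟩ := (hφ z).2 (t z hz)
    refine ⟨T, fun z' hz' h => ?_⟩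
    obtain rfl := hinj h
    exact hT
  choose T hT using hT
  have hsec : IsSec F (i '' K) T := by
    rintro _ ⟨z, hz, rfl⟩
    obtain ⟨V, σ, hzV, hσ⟩ := ht z hz
    obtain ⟨W, s, hzW, hs⟩ := exists_section_near φ hφ hi σ z hzV
    refine ⟨W, s, hzW, ?_⟩
    rintro _ ⟨z', hz', rfl⟩ hW
    obtain ⟨h', e⟩ := hs z' hW
    exact (hφ z').1 ((hT (i z') ⟨z', hz', rfl⟩ z' hz' rfl).trans ((hσ z' hz' h').trans e.symm))
  obtain ⟨U, hU, s, hs⟩ := exists_extend F (hK.image i.hom.continuous) hsep T hsec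
  exact ⟨U, hU, s, fun z hz => (congrArg (φ.stalk z) (hs (i z) ⟨z, hz, rfl⟩)).trans (hT _ ⟨z, hz, rfl⟩ z hz rfl)⟩

variable [CompactSpace Z] (hsep : ∀ x ∈ Set.range i, ∀ y ∈ Set.range i, x ≠ y → Disjoint (𝓝 x) (𝓝 y))

include hφ hi hinj hsep in
/-- restrictions of flasque sheaves to compact subsets are soft -/
theorem isSoft_of_isFlasque_image [TopCat.Sheaf.IsFlasque F] : IsSoft F' := fun K hK t ht => by
  obtain ⟨U, hU, s, hs⟩ := exists_extend_image φ hφ hi hinj hK.isCompact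
    (fun x hx y hy => hsep x (Set.image_subset_range _ _ hx) y (Set.image_subset_range _ _ hy)) t ht
  obtain ⟨σ, hσ⟩ := (AddCommGrpCat.epi_iff_surjective _).1
    (TopCat.Presheaf.IsFlasque.epi (F := F.obj) (homOfLE (le_top : U ≤ ⊤)).op) s
  refine ⟨φ.app ⊤ σ, fun z hz => ?_⟩
  refine Eq.trans ?_ (hs z hz)
  rw [← hσ, germ_res]
  exact (φ.stalk_germ ⊤ z trivial σ).symm

include hφ hi hinj hsep in
/-- global sections on a compact subset extend to a neighbourhood -/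
theorem exists_lift_global (σ : F'.obj.obj (op ⊤)) :
    ∃ (U : Opens X) (hU : ∀ z, i z ∈ U) (s : F.obj.obj (op U)),
      ∀ z, φ.stalk z (germ F U (i z) (hU z) s) = germ F' ⊤ z trivial σ := by
  obtain ⟨U, hU, s, hs⟩ := exists_extend_image φ hφ hi hinj isCompact_univ
    (fun x hx y hy => hsep x (Set.image_subset_range _ _ hx) y (Set.image_subset_range _ _ hy))
    (fun z _ => germ F' ⊤ z trivial σ) (fun z _ => ⟨⊤, σ, trivial, fun _ _ _ => rfl⟩)
  exact ⟨U, fun z => hU ⟨z, trivial, rfl⟩, s, fun z => hs z trivial⟩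

omit [CompactSpace Z] in
include hφ in
/-- a section vanishing on a subset vanishes near it -/
theorem exists_res_zero {U : Opens X} (hU : ∀ z, i z ∈ U) (s : F.obj.obj (op U))
    (h : ∀ z, φ.stalk z (germ F U (i z) (hU z) s) = 0) :
    ∃ (U' : Opens X) (hle : U' ≤ U), (∀ z, i z ∈ U') ∧ F.obj.map (homOfLE hle).op s = 0 := by
  let W := eqLocus F s (0 : F.obj.obj (op U))
  refine ⟨W, fun x hx => hx.1, fun z => ⟨hU z, hU z, ?_⟩, ?_⟩
  · exact ((hφ z).1 ((h z).trans (map_zero _).symm)).trans (map_zero _).symm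
  · refine TopCat.Presheaf.section_ext F _ _ _ fun x hx => ?_
    show germ F W x hx _ = germ F W x hx 0
    obtain ⟨h₁, h₂, e⟩ := hx
    rw [germ_res, map_zero]
    exact e.trans (map_zero _)

end Groth.Agent.SoftSheaf
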