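import Groth.Agent.SoftSheaf.Restrict
import Groth.Agent.Godement.Resolution
import Groth.Agent.Godement.Germs
import Groth.Agent.CohTopLib.Functors

/-! # The Godement complexes of a space and of a compact subset -/

set_option autoImplicit false
set_option linter.style.haveILetI false

noncomputable section

universe u

open CategoryTheory CategoryTheory.Limits TopologicalSpace Opposite
open scoped Topology

namespace Groth.Agent.SoftSheaf

open Godement CohTopLib

variable {X Z : TopCat.{u}}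

/-- sections over an open of the terms of the Godement resolution -/
abbrev SG (F : CohTop.Ab X) (n : ℕ) (U : Opens X) : AddCommGrpCat.{u} := (G0 (Qn F n)).obj.obj (op U)

/-- the differential over an open -/
def dS (F : CohTop.Ab X) (n : ℕ) (U : Opens X) : SG F n U ⟶ SG F (n + 1) U :=
  (π (Qn F n)).hom.app (op U) ≫ (η (Qn F (n + 1))).hom.app (op U)

/-- the Godement complex over an open -/
def cxU (F : CohTop.Ab X) (U : Opens X) : CochainComplex AddCommGrpCat.{u} ℕ :=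
  CochainComplex.of (fun n => SG F n U) (fun n => dS F n U) fun n => by
    ext s
    exact (congrArg ((η (Qn F (n + 2))).hom.app (op U)) (π_η_app (Qn F (n + 1)) U _)).trans (map_zero _)

lemma cxU_d (F : CohTop.Ab X) (U : Opens X) (n : ℕ) : (cxU F U).d n (n + 1) = dS F n U :=
  CochainComplex.of_d (X := fun n => SG F n U) (fun n => dS F n U) n

/-- restriction of the Godement complexes -/
def cxURes (F : CohTop.Ab X) {U V : Opens X} (h : V ≤ U) : cxU F U ⟶ cxU F V where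
  f n := (G0 (Qn F n)).obj.map (homOfLE h).op
  comm' n m hnm := by
    obtain rfl : n + 1 = m := hnm
    rw [cxU_d, cxU_d]
    ext s
    exact ((congrArg ((η (Qn F (n + 1))).hom.app (op V)) (app_res (π (Qn F n)) h s)).trans
      (app_res (η (Qn F (n + 1))) h _))

lemma cxURes_f (F : CohTop.Ab X) {U V : Opens X} (h : V ≤ U) (n : ℕ) (s : SG F n U) :
    (cxURes F h).f n s = (G0 (Qn F n)).obj.map (homOfLE h).op s := rfl

/-- functoriality of the Godement complexes over opens -/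
def cxUMap {g : Z ⟶ X} {F : CohTop.Ab X} {F' : CohTop.Ab Z} (φ : Coh g F F') (U : Opens X) :
    cxU F U ⟶ cxU F' ((Opens.map g).obj U) where
  f n := AddCommGrpCat.ofHom ((G0map (Qnmap φ n)).app U)
  comm' n m hnm := by
    obtain rfl : n + 1 = m := hnm
    rw [cxU_d, cxU_d]
    ext s
    refine Eq.trans ?_ (ConcreteCategory.congr_hom (congrArg
      (fun h : Qn F (n + 1) ⟶ (CohTop.push g).obj (G0 (Qn F' (n + 1))) => h.hom.app (op U))
      (η_G0map (Qnmap φ (n + 1)))) ((π (Qn F n)).hom.app (op U) s)).symm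
    exact congrArg ((η (Qn F' (n + 1))).hom.app (op _)) (π_Qmap_app (Qnmap φ n) U s).symm

variable {i : Z ⟶ X} {F : CohTop.Ab X} {F' : CohTop.Ab Z}

lemma top_le (U : Opens X) (hU : ∀ z, i z ∈ U) : (⊤ : Opens Z) ≤ (Opens.map i).obj U := fun z _ => hU z

/-- restriction of the Godement complex to the subset -/
def rZ (φ : Coh i F F') (U : Opens X) (hU : ∀ z, i z ∈ U) (n : ℕ) : SG F n U →+ ΓG F' n :=
  (((G0 (Qn F' n)).obj.map (homOfLE (top_le U hU)).op).hom).comp ((G0map (Qnmap φ n)).app U)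

lemma rZ_apply (φ : Coh i F F') (U : Opens X) (hU : ∀ z, i z ∈ U) (n : ℕ) (s : SG F n U) (z : (⊤ : Opens Z)) :
    rZ φ U hU n s z = (Qnmap φ n).stalk z.1 (s ⟨i z.1, hU z.1⟩) := rfl

/-- the projection to the next quotient -/
def πn (F : CohTop.Ab X) (n : ℕ) : G0 (Qn F n) ⟶ Qn F (n + 1) := π (Qn F n)

/-- inverse images of the quotients -/
abbrev Pn (i : Z ⟶ X) (F : CohTop.Ab X) (n : ℕ) : CohTop.Ab Z := (CohTop.pull i).obj (Qn F n)

/-- comparison with the quotients on the subset -/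
def mn (φ : Coh i F F') (n : ℕ) : Pn i F n ⟶ Qn F' n := ((adj i).homEquiv _ _).symm (Qnmap φ n)

lemma unit_mn (φ : Coh i F F') (n : ℕ) :
    (adj i).unit.app (Qn F n) ≫ (CohTop.push i).map (mn φ n) = Qnmap φ n :=
  ((adj i).homEquiv_unit _ _ _).symm.trans (((adj i).homEquiv _ _).apply_symm_apply _)

lemma stalk_mn (φ : Coh i F F') (n : ℕ) (z : Z) (t : CohTop.stalk (Qn F n) (i z)) :
    stalkMap (mn φ n) z ((unitCoh i (Qn F n)).stalk z t) = (Qnmap φ n).stalk z t := by
  obtain ⟨U, hU, s, rfl⟩ := exists_germ_eq _ t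
  rw [Coh.stalk_germ _ U z hU, Coh.stalk_germ _ U z hU, stalkMap_germ]
  exact congrArg (germ (Qn F' n) _ z _) (ConcreteCategory.congr_hom
    (congrArg (fun m : Qn F n ⟶ (CohTop.push i).obj (Qn F' n) => m.hom.app (op U)) (unit_mn φ n)) s)

/-- the inverse image of a step of the resolution -/
def pStep (i : Z ⟶ X) (F : CohTop.Ab X) (n : ℕ) : ShortComplex (CohTop.Ab Z) :=
  ShortComplex.mk ((CohTop.pull i).map (η (Qn F n))) ((CohTop.pull i).map (π (Qn F n)))
    (((CohTop.pull i).map_comp _ _).symm.trans ((congrArg (CohTop.pull i).map (η_π _)).trans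
      (haveI := (adj i).left_adjoint_additive; (CohTop.pull i).map_zero _ _)))

lemma shortExact_pStep (i : Z ⟶ X) (F : CohTop.Ab X) (n : ℕ) : (pStep i F n).ShortExact := by
  haveI := (adj i).left_adjoint_additive
  haveI := preservesFiniteLimits_pull i
  haveI := preservesFiniteColimits_pull i
  exact (shortExact_step (Qn F n)).map_of_exact (CohTop.pull i)

/-- the map of short exact sequences -/
def stepHom (φ : Coh i F F') (n : ℕ) :
    pStep i F n ⟶ ShortComplex.mk (η (Qn F' n)) (π (Qn F' n)) (η_π _) where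
  τ₁ := mn φ n
  τ₂ := ((adj i).homEquiv _ _).symm (G0map (Qnmap φ n))
  τ₃ := mn φ (n + 1)
  comm₁₂ := by
    apply ((adj i).homEquiv _ _).injective
    show (adj i).homEquiv _ _ (mn φ n ≫ η (Qn F' n)) =
      (adj i).homEquiv _ _ ((CohTop.pull i).map (η (Qn F n)) ≫ ((adj i).homEquiv _ _).symm (G0map (Qnmap φ n)))
    rw [mn, Adjunction.homEquiv_naturality_right, Adjunction.homEquiv_naturality_left, Equiv.apply_symm_apply,
      Equiv.apply_symm_apply]
    exact (η_G0map (Qnmap φ n)).symm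
  comm₂₃ := by
    apply ((adj i).homEquiv _ _).injective
    show (adj i).homEquiv _ _ (((adj i).homEquiv _ _).symm (G0map (Qnmap φ n)) ≫ π (Qn F' n)) =
      (adj i).homEquiv _ _ ((CohTop.pull i).map (π (Qn F n)) ≫ mn φ (n + 1))
    rw [Adjunction.homEquiv_naturality_right, Adjunction.homEquiv_naturality_left, Equiv.apply_symm_apply]
    exact ((π_Qmap (Qnmap φ n)).symm).trans
      (congrArg (π (Qn F n) ≫ ·) (((adj i).homEquiv (Qn F (n + 1)) (Qn F' (n + 1))).apply_symm_apply (Qnmap φ (n + 1))).symm)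

lemma HUmap_apply {G G' : CohTop.Ab Z} (f : G ⟶ G') (k : ℕ) (U : Opens Z) (x : CohTop.HU G k U) :
    CohTop.HUmap f k U x = Abelian.Ext.comp x (Abelian.Ext.mk₀ f) (add_zero k) := rfl

lemma huDelta_nat {T T' : ShortComplex (CohTop.Ab Z)} (hT : T.ShortExact) (hT' : T'.ShortExact) (f : T ⟶ T')
    (k : ℕ) (U : Opens Z) (x : CohTop.HU T.X₃ k U) :
    CohTop.HUmap f.τ₁ (k + 1) U (huDelta hT k U x) = huDelta hT' k U (CohTop.HUmap f.τ₃ k U x) := by
  rw [HUmap_apply, HUmap_apply, huDelta_apply, huDelta_apply, Abelian.Ext.comp_assoc_of_third_deg_zero,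
    ShortComplex.ShortExact.extClass_naturality hT hT' f, Abelian.Ext.comp_assoc_of_second_deg_zero]

variable [CompactSpace Z] [T2Space Z] (φ : Coh i F F') (hφ : ∀ z, Function.Bijective (φ.stalk z))
  (hi : Topology.IsInducing i) (hinj : Function.Injective i)
  (hsep : ∀ x ∈ Set.range i, ∀ y ∈ Set.range i, x ≠ y → Disjoint (𝓝 x) (𝓝 y))

include hi hinj hsep in
lemma subsingleton_HU_pG (n k : ℕ) : Subsingleton (CohTop.HU (pStep i F n).X₂ (k + 1) ⊤) :=
  subsingleton_HU_of_isSoft k _ (isSoft_of_isFlasque_image (F := G0 (Qn F n)) (F' := (CohTop.pull i).obj (G0 (Qn F n)))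
    (unitCoh i _) (bijective_stalk_unit i _) hi hinj hsep)

include hφ hi hinj hsep in
theorem bijective_HUmap_mn (n : ℕ) : ∀ k : ℕ, Function.Bijective (CohTop.HUmap (mn φ n) (k + 1) ⊤) := by
  induction n with
  | zero =>
    intro k
    haveI : ∀ z, IsIso ((TopCat.Presheaf.stalkFunctor AddCommGrpCat.{u} z).map (mn φ 0).hom) := fun z => by
      refine (ConcreteCategory.isIso_iff_bijective _).2 ?_
      refine (Function.Bijective.of_comp_iff _ (bijective_stalk_unit i (Qn F 0) z)).1 ?_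
      have e : ⇑(stalkMap (mn φ 0) z) ∘ ⇑((unitCoh i (Qn F 0)).stalk z) = ⇑(φ.stalk z) :=
        funext fun t => stalk_mn φ 0 z t
      exact (e.symm ▸ hφ z :)
    haveI : IsIso (mn φ 0) := TopCat.Presheaf.isIso_of_stalkFunctor_map_iso (mn φ 0)
    exact ConcreteCategory.bijective_of_isIso
      ((((Sheaf.cohomologyPresheafFunctor (Opens.grothendieckTopology Z) (k + 1)).map (mn φ 0))).app (op ⊤))
  | succ n ih =>
    intro k
    have hT := shortExact_pStep i F n
    have hT' := shortExact_step (Qn F' n)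
    have b := ih (k + 1)
    have d : Function.Bijective (huDelta hT (k + 1) ⊤) :=
      ⟨huDelta_injective hT _ ⊤ (subsingleton_HU_pG hi hinj hsep n k),
        huDelta_surjective hT _ ⊤ (subsingleton_HU_pG hi hinj hsep n (k + 1))⟩
    have d' : Function.Bijective (huDelta hT' (k + 1) ⊤) :=
      ⟨huDelta_injective hT' _ ⊤ (subsingleton_HU_of_isFlasque (G0 (Qn F' n)) ⊤ k),
        huDelta_surjective hT' _ ⊤ (subsingleton_HU_of_isFlasque (G0 (Qn F' n)) ⊤ (k + 1))⟩
    refine (Function.Bijective.of_comp_iff' d' _).1 ?_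
    have e : ⇑(huDelta hT' (k + 1) ⊤) ∘ ⇑(CohTop.HUmap (mn φ (n + 1)) (k + 1) ⊤) =
        ⇑(CohTop.HUmap (mn φ n) (k + 1 + 1) ⊤) ∘ ⇑(huDelta hT (k + 1) ⊤) :=
      funext fun x => (huDelta_nat hT hT' (stepHom φ n) (k + 1) ⊤ x).symm
    rw [e]
    exact b.comp d

include hφ hi hinj hsep in
lemma exists_decomp (n : ℕ) (c : (Qn F' (n + 1)).obj.obj (op ⊤)) :
    ∃ (c' : (Pn i F (n + 1)).obj.obj (op ⊤)) (e : ΓG F' n),
      c = (mn φ (n + 1)).hom.app (op ⊤) c' + (πn F' n).hom.app (op ⊤) e := by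
  have hT := shortExact_pStep i F n
  have hT' := shortExact_step (Qn F' n)
  obtain ⟨y, hy⟩ := (bijective_HUmap_mn φ hφ hi hinj hsep n 0).2 (huDelta hT' 0 ⊤ ((hu0 (Qn F' (n + 1)) ⊤).symm c))
  obtain ⟨x, rfl⟩ := huDelta_surjective hT 0 ⊤ (subsingleton_HU_pG hi hinj hsep n 0) y
  obtain ⟨c', rfl⟩ := (hu0 (Pn i F (n + 1)) ⊤).symm.surjective x
  have h2 : CohTop.HUmap (mn φ (n + 1)) 0 ⊤ ((hu0 (Pn i F (n + 1)) ⊤).symm c') =
      (hu0 (Qn F' (n + 1)) ⊤).symm ((mn φ (n + 1)).hom.app (op ⊤) c') := by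
    apply (hu0 (Qn F' (n + 1)) ⊤).injective
    exact ((hu0_HUmap (mn φ (n + 1)) ⊤ _).trans (congrArg _ ((hu0 (Pn i F (n + 1)) ⊤).apply_symm_apply c'))).trans
      ((hu0 (Qn F' (n + 1)) ⊤).apply_symm_apply _).symm
  have h1 : huDelta hT' 0 ⊤ ((hu0 (Qn F' (n + 1)) ⊤).symm (c - (mn φ (n + 1)).hom.app (op ⊤) c')) = 0 := by
    rw [map_sub, ← h2]
    refine (map_sub (huDelta hT' 0 ⊤) _ _).trans ?_
    rw [sub_eq_zero, ← hy]
    exact huDelta_nat hT hT' (stepHom φ n) 0 ⊤ _
  obtain ⟨e, he⟩ := (huDelta_zero_iff hT' ⊤ _).1 h1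
  exact ⟨c', e, (add_sub_cancel _ c).symm.trans (congrArg ((mn φ (n + 1)).hom.app (op ⊤) c' + ·) he.symm)⟩

include hφ hi hinj hsep in
lemma exists_primitive_pull (n : ℕ) (c' : (Pn i F (n + 1)).obj.obj (op ⊤)) (e : ΓG F' n)
    (h : (mn φ (n + 1)).hom.app (op ⊤) c' = (πn F' n).hom.app (op ⊤) e) :
    ∃ e' : ((CohTop.pull i).obj (G0 (Qn F n))).obj.obj (op ⊤), (pStep i F n).g.hom.app (op ⊤) e' = c' := by
  have hT := shortExact_pStep i F n
  have hT' := shortExact_step (Qn F' n)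
  refine (huDelta_zero_iff hT ⊤ c').1 ((bijective_HUmap_mn φ hφ hi hinj hsep n 0).1 ?_)
  refine Eq.trans ?_ (map_zero _).symm
  refine (huDelta_nat hT hT' (stepHom φ n) 0 ⊤ _).trans ?_
  refine Eq.trans (congrArg (huDelta hT' 0 ⊤) ?_) ((huDelta_zero_iff hT' ⊤ _).2 ⟨e, h.symm⟩)
  apply (hu0 (Qn F' (n + 1)) ⊤).injective
  exact ((hu0_HUmap (mn φ (n + 1)) ⊤ _).trans (congrArg _ ((hu0 (Pn i F (n + 1)) ⊤).apply_symm_apply _))).trans
    ((hu0 (Qn F' (n + 1)) ⊤).apply_symm_apply _).symm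

omit [CompactSpace Z] [T2Space Z] in
lemma germ_res_top {G : CohTop.Ab Z} (V : Opens Z) (hV : (⊤ : Opens Z) ≤ V) (z : Z) (s : G.obj.obj (op V)) :
    germ G ⊤ z trivial (G.obj.map (homOfLE hV).op s) = germ G V z (hV trivial) s :=
  germ_res G hV z trivial s

omit [CompactSpace Z] [T2Space Z] in
lemma rZ_η (U : Opens X) (hU : ∀ z, i z ∈ U) (n : ℕ) (s : (Qn F n).obj.obj (op U)) :
    rZ φ U hU n ((η (Qn F n)).hom.app (op U) s) =
      (η (Qn F' n)).hom.app (op ⊤) ((Qn F' n).obj.map (homOfLE (top_le U hU)).op ((Qnmap φ n).app U s)) :=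
  funext fun z => ((Qnmap φ n).stalk_germ U z.1 (hU z.1) s).trans (germ_res_top _ (top_le U hU) z.1 _).symm

omit [CompactSpace Z] [T2Space Z] in
lemma exists_η_of_dS (n : ℕ) (U : Opens X) (s : SG F n U) (h : dS F n U s = 0) :
    ∃ q, (η (Qn F n)).hom.app (op U) q = s :=
  TopCat.Sheaf.sections_exact_of_left_exact (shortExact_step (Qn F n)).exact (shortExact_step (Qn F n)).mono_f s
    (η_app_injective (Qn F (n + 1)) U (h.trans (map_zero _).symm))

omit [CompactSpace Z] [T2Space Z] in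
lemma dS_η (n : ℕ) (U : Opens X) (q : (Qn F n).obj.obj (op U)) : dS F n U ((η (Qn F n)).hom.app (op U) q) = 0 :=
  (congrArg ((η (Qn F (n + 1))).hom.app (op U)) (π_η_app _ U q)).trans (map_zero _)

include hφ hi hinj hsep in
/-- cycles on the subset come from a neighbourhood, in degree zero -/
theorem exists_lift_cycle_zero (w : ΓG F' 0) (hw : dG F' 0 w = 0) :
    ∃ (U : Opens X) (hU : ∀ z, i z ∈ U) (s : SG F 0 U), dS F 0 U s = 0 ∧ rZ φ U hU 0 s = w := by
  obtain ⟨c, rfl⟩ := (ker_dG F' 0 w).1 hw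
  obtain ⟨U, hU, s, hs⟩ := exists_lift_global φ hφ hi hinj hsep c
  exact ⟨U, hU, (η (Qn F 0)).hom.app (op U) s, dS_η 0 U s, funext fun z => hs z.1⟩

include hφ hi hinj hsep in
/-- cycles on the subset come from a neighbourhood up to boundaries -/
theorem exists_lift_cycle_succ (n : ℕ) (w : ΓG F' (n + 1)) (hw : dG F' (n + 1) w = 0) :
    ∃ (U : Opens X) (hU : ∀ z, i z ∈ U) (s : SG F (n + 1) U) (e : ΓG F' n),
      dS F (n + 1) U s = 0 ∧ rZ φ U hU (n + 1) s + dG F' n e = w := by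
  obtain ⟨c, rfl⟩ := (ker_dG F' (n + 1) w).1 hw
  obtain ⟨c', e, rfl⟩ := exists_decomp φ hφ hi hinj hsep n c
  obtain ⟨U, hU, s, hs⟩ := exists_lift_global (unitCoh i (Qn F (n + 1))) (bijective_stalk_unit i _) hi hinj hsep c'
  refine ⟨U, hU, (η (Qn F (n + 1))).hom.app (op U) s, e, dS_η (n + 1) U s, ?_⟩
  have h1 : rZ φ U hU (n + 1) ((η (Qn F (n + 1))).hom.app (op U) s) =
      (η (Qn F' (n + 1))).hom.app (op ⊤) ((mn φ (n + 1)).hom.app (op ⊤) c') := by
    funext z
    refine (congrArg (fun t => t) (stalk_mn φ (n + 1) z.1 _).symm).trans ?_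
    exact (congrArg (stalkMap (mn φ (n + 1)) z.1) (hs z.1)).trans (stalkMap_germ _ ⊤ z.1 trivial c')
  rw [h1]
  exact (map_add ((η (Qn F' (n + 1))).hom.app (op ⊤)).hom _ _).symm

include hφ in
omit [CompactSpace Z] [T2Space Z] in
/-- cycles vanishing on the subset vanish near it, in degree zero -/
theorem exists_res_zero_zero {U : Opens X} (hU : ∀ z, i z ∈ U) (s : SG F 0 U) (hs : dS F 0 U s = 0)
    (h : rZ φ U hU 0 s = 0) :
    ∃ (U' : Opens X) (hle : U' ≤ U), (∀ z, i z ∈ U') ∧ (cxURes F hle).f 0 s = 0 := by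
  obtain ⟨q, rfl⟩ := exists_η_of_dS 0 U s hs
  obtain ⟨U', hle, hU', e⟩ := exists_res_zero φ hφ hU q fun z => congrFun h ⟨z, trivial⟩
  refine ⟨U', hle, hU', (cxURes_f F hle 0 _).trans ?_⟩
  rw [← app_res]
  exact (congrArg ((η (Qn F 0)).hom.app (op U')) e).trans (map_zero _)

include hφ hi hinj hsep in
/-- cycles which are boundaries on the subset are boundaries near it -/
theorem exists_primitive_near (n : ℕ) {U : Opens X} (hU : ∀ z, i z ∈ U) (s : SG F (n + 1) U)
    (hs : dS F (n + 1) U s = 0) (e : ΓG F' n) (h : rZ φ U hU (n + 1) s = dG F' n e) :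
    ∃ (U' : Opens X) (hle : U' ≤ U) (t : SG F n U'), (∀ z, i z ∈ U') ∧
      (cxURes F hle).f (n + 1) s = dS F n U' t := by
  obtain ⟨q, rfl⟩ := exists_η_of_dS (n + 1) U s hs
  let c' : (Pn i F (n + 1)).obj.obj (op ⊤) :=
    (Pn i F (n + 1)).obj.map (homOfLE (top_le U hU)).op ((unitCoh i (Qn F (n + 1))).app U q)
  have hc : ∀ z, germ (Pn i F (n + 1)) ⊤ z trivial c' =
      (unitCoh i (Qn F (n + 1))).stalk z (germ _ U (i z) (hU z) q) := fun z => by
    rw [Coh.stalk_germ _ U z (hU z)]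
    exact germ_res_top _ (top_le U hU) z _
  have hm : (mn φ (n + 1)).hom.app (op ⊤) c' = (πn F' n).hom.app (op ⊤) e := by
    refine η_app_injective (Qn F' (n + 1)) ⊤ (Eq.trans (funext fun z => ?_) h)
    refine Eq.trans ?_ (stalk_mn φ (n + 1) z.1 _)
    exact (stalkMap_germ _ ⊤ z.1 trivial c').symm.trans (congrArg (stalkMap (mn φ (n + 1)) z.1) (hc z.1))
  obtain ⟨e', he'⟩ := exists_primitive_pull φ hφ hi hinj hsep n c' e hm
  obtain ⟨U₁, hU₁, t, ht⟩ := exists_lift_global (F' := (CohTop.pull i).obj (G0 (Qn F n))) (unitCoh i (G0 (Qn F n)))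
    (bijective_stalk_unit i _) hi hinj hsep e'
  let V : Opens X := U ⊓ U₁
  let d : (Qn F (n + 1)).obj.obj (op V) :=
    (Qn F (n + 1)).obj.map (homOfLE (inf_le_left : V ≤ U)).op q -
      (Qn F (n + 1)).obj.map (homOfLE (inf_le_right : V ≤ U₁)).op ((πn F n).hom.app (op U₁) t)
  obtain ⟨U', hle, hU', hd⟩ := exists_res_zero (unitCoh i (Qn F (n + 1))) (bijective_stalk_unit i _) (U := V)
    (fun z => ⟨hU z, hU₁ z⟩) d fun z => by
      have hu : (unitCoh i (Qn F (n + 1))).stalk z (germ _ U₁ (i z) (hU₁ z) ((πn F n).hom.app (op U₁) t)) =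
          germ (Pn i F (n + 1)) ⊤ z trivial ((pStep i F n).g.hom.app (op ⊤) e') := by
        have nat : (πn F n) ≫ unitCoh i (Qn F (n + 1)) =
            unitCoh i (G0 (Qn F n)) ≫ (CohTop.push i).map ((CohTop.pull i).map (πn F n)) :=
          (adj i).unit.naturality (πn F n)
        have n1 := ConcreteCategory.congr_hom (congrArg
          (fun m : G0 (Qn F n) ⟶ (CohTop.push i).obj (Pn i F (n + 1)) => m.hom.app (op U₁)) nat) t
        rw [Coh.stalk_germ _ U₁ z (hU₁ z)]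
        refine (congrArg (germ (Pn i F (n + 1)) _ z _) n1).trans ?_
        refine germ_app_eq ((CohTop.pull i).map (πn F n)) _ _ ?_
        exact ((unitCoh i (G0 (Qn F n))).stalk_germ U₁ z (hU₁ z) t).symm.trans (ht z)
      rw [map_sub, map_sub, germ_res, germ_res, hu, he', hc, sub_self]
  have hle₁ : U' ≤ U := hle.trans inf_le_left
  have hle₂ : U' ≤ U₁ := hle.trans inf_le_right
  refine ⟨U', hle₁, (G0 (Qn F n)).obj.map (homOfLE hle₂).op t, hU', (cxURes_f F hle₁ (n + 1) _).trans ?_⟩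
  rw [← app_res]
  refine congrArg ((η (Qn F (n + 1))).hom.app (op U')) ?_
  refine Eq.trans ?_ (app_res (πn F n) hle₂ t).symm
  rw [map_sub, sub_eq_zero, ← ConcreteCategory.comp_apply, ← Functor.map_comp, ← ConcreteCategory.comp_apply,
    ← Functor.map_comp] at hd
  exact hd

end Groth.Agent.SoftSheaf
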