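import Groth.Agent.Godement.Stalk

/-! # Sections on compact subsets extend to neighbourhoods -/

set_option autoImplicit false
set_option linter.style.haveILetI false

noncomputable section

universe u

open CategoryTheory CategoryTheory.Limits TopologicalSpace Opposite
open scoped Topology

namespace Groth.Agent.SoftSheaf

open Godement

variable {X : TopCat.{u}} (F : CohTop.Ab X)

/-- a family of germs on a subset which is locally given by sections -/
def IsSec (K : Set X) (t : ∀ x, x ∈ K → CohTop.stalk F x) : Prop :=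
  ∀ x, x ∈ K → ∃ (U : Opens X) (s : F.obj.obj (op U)), x ∈ U ∧
    ∀ y (hy : y ∈ K) (hyU : y ∈ U), t y hy = germ F U y hyU s

/-- binary gluing -/
lemma glue₂ {A B : Opens X} (a : F.obj.obj (op A)) (b : F.obj.obj (op B))
    (h : ∀ x (hA : x ∈ A) (hB : x ∈ B), germ F A x hA a = germ F B x hB b) :
    ∃ c : F.obj.obj (op (A ⊔ B)),
      (∀ x (hA : x ∈ A), germ F (A ⊔ B) x (Or.inl hA) c = germ F A x hA a) ∧
      (∀ x (hB : x ∈ B), germ F (A ⊔ B) x (Or.inr hB) c = germ F B x hB b) := by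
  let W : Bool → Opens X := fun k => if k then A else B
  have hW : ∀ k, W k ≤ A ⊔ B := by
    rintro (_ | _)
    exacts [le_sup_right, le_sup_left]
  let sf : ∀ k, F.obj.obj (op (W k)) := fun k =>
    match k with
    | true => a
    | false => b
  have hc : TopCat.Presheaf.IsCompatible F.obj W sf := fun k l => by
    refine TopCat.Presheaf.section_ext F _ _ _ fun x hx => ?_
    refine (TopCat.Presheaf.germ_res_apply F.obj _ x hx _).trans (Eq.trans ?_ (TopCat.Presheaf.germ_res_apply F.obj _ x hx _).symm)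
    rcases k with _ | _ <;> rcases l with _ | _
    exacts [rfl, (h x hx.2 hx.1).symm, h x hx.1 hx.2, rfl]
  obtain ⟨c, hc', -⟩ := TopCat.Sheaf.existsUnique_gluing' F W (A ⊔ B) (fun k => homOfLE (hW k))
    (fun x hx => by
      rcases hx with hx | hx
      · exact Opens.mem_iSup.2 ⟨true, hx⟩
      · exact Opens.mem_iSup.2 ⟨false, hx⟩) sf hc
  exact ⟨c, fun x hA => (germ_res F (hW true) x hA c).symm.trans (congrArg (germ F A x hA) (hc' true)),
    fun x hB => (germ_res F (hW false) x hB c).symm.trans (congrArg (germ F B x hB) (hc' false))⟩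

/-- the open set where two sections have the same germ -/
def eqLocus {U V : Opens X} (s : F.obj.obj (op U)) (t : F.obj.obj (op V)) : Opens X :=
  ⟨{x | ∃ (h : x ∈ U) (h' : x ∈ V), germ F U x h s = germ F V x h' t}, isOpen_iff_forall_mem_open.2 fun x ⟨h, h', e⟩ => by
    obtain ⟨W, hW, h₁, h₂, e'⟩ := exists_res_eq h h' e
    refine ⟨W, fun y hy => ⟨h₁ hy, h₂ hy, ?_⟩, W.2, hW⟩
    rw [← germ_res F h₁ y hy s, ← germ_res F h₂ y hy t, e']⟩

/-- every point of a compact Hausdorff subset has compact neighbourhoods in the subset -/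
lemma exists_compact_nhdsWithin {K : Set X} (hK : IsCompact K)
    (hsep : ∀ x ∈ K, ∀ y ∈ K, x ≠ y → Disjoint (𝓝 x) (𝓝 y)) {x : X} (hx : x ∈ K) (U : Opens X) (hxU : x ∈ U) :
    ∃ C : Set X, IsCompact C ∧ C ⊆ K ∧ C ⊆ U ∧ C ∈ 𝓝[K] x := by
  haveI : CompactSpace K := isCompact_iff_compactSpace.1 hK
  haveI : T2Space K := t2Space_iff_disjoint_nhds.2 fun a b hab => by
    show Disjoint (𝓝 (⟨a.1, a.2⟩ : K)) (𝓝 (⟨b.1, b.2⟩ : K))
    rw [nhds_subtype_eq_comap, nhds_subtype_eq_comap]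
    exact Filter.disjoint_comap (hsep a a.2 b b.2 fun h => hab (Subtype.ext h))
  obtain ⟨C, hC, hCU, hCc⟩ := local_compact_nhds (X := K) (x := ⟨x, hx⟩)
    ((U.2.preimage continuous_subtype_val).mem_nhds (show (⟨x, hx⟩ : K) ∈ Subtype.val ⁻¹' (U : Set X) from hxU))
  refine ⟨Subtype.val '' C, hCc.image continuous_subtype_val, by rintro _ ⟨y, -, rfl⟩; exact y.2,
    by rintro _ ⟨y, hy, rfl⟩; exact hCU hy, ?_⟩
  rw [nhdsWithin_eq_map_subtype_coe hx]
  exact Filter.image_mem_map hC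

/-- Sections on a compact Hausdorff subset extend to a neighbourhood. -/
theorem exists_extend {K : Set X} (hK : IsCompact K)
    (hsep : ∀ x ∈ K, ∀ y ∈ K, x ≠ y → Disjoint (𝓝 x) (𝓝 y))
    (t : ∀ x, x ∈ K → CohTop.stalk F x) (ht : IsSec F K t) :
    ∃ (U : Opens X) (hU : K ⊆ U) (s : F.obj.obj (op U)), ∀ x (hx : x ∈ K), germ F U x (hU hx) s = t x hx := by
  let Good : Set X → Prop := fun L => ∃ C, IsCompact C ∧ L ⊆ C ∧ ∃ hCK : C ⊆ K,
    ∃ (U : Opens X) (hU : C ⊆ U) (s : F.obj.obj (op U)), ∀ x (hx : x ∈ C), germ F U x (hU hx) s = t x (hCK hx)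
  have key : Good K := by
    refine hK.induction_on ?_ ?_ ?_ fun x hx => ?_
    · exact ⟨∅, isCompact_empty, subset_rfl, Set.empty_subset _, ⊥, Set.empty_subset _, 0, fun x hx => hx.elim⟩
    · rintro L L' hle ⟨C, hC, hLC, h⟩
      exact ⟨C, hC, hle.trans hLC, h⟩
    · rintro L₁ L₂ ⟨C₁, hC₁, hL₁, hCK₁, U₁, hU₁, s₁, hs₁⟩ ⟨C₂, hC₂, hL₂, hCK₂, U₂, hU₂, s₂, hs₂⟩
      refine ⟨C₁ ∪ C₂, hC₁.union hC₂, Set.union_subset_union hL₁ hL₂, Set.union_subset hCK₁ hCK₂, ?_⟩
      let W := eqLocus F s₁ s₂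
      have h12 : C₁ ∩ C₂ ⊆ W := fun y ⟨hy₁, hy₂⟩ => ⟨hU₁ hy₁, hU₂ hy₂, (hs₁ y hy₁).trans (hs₂ y hy₂).symm⟩
      have hA := hC₁.diff W.2
      have hB := hC₂.diff W.2
      have hd : Disjoint (𝓝ˢ (C₁ \ (W : Set X))) (𝓝ˢ (C₂ \ (W : Set X))) := by
        refine hA.disjoint_nhdsSet_left.2 fun a ha => ?_
        refine hB.disjoint_nhdsSet_right.2 fun b hb => ?_
        refine hsep a (hCK₁ ha.1) b (hCK₂ hb.1) ?_
        rintro rfl
        exact ha.2 (h12 ⟨ha.1, hb.1⟩)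
      obtain ⟨N₁, N₂, hN₁, hN₂, hAN, hBN, hN⟩ := separatedNhds_iff_disjoint.2 hd
      let A : Opens X := U₁ ⊓ ⟨N₁, hN₁⟩
      let B : Opens X := U₂ ⊓ ⟨N₂, hN₂⟩
      obtain ⟨c, hcA, hcB⟩ := glue₂ F (A := A) (B := B) (F.obj.map (homOfLE inf_le_left).op s₁)
        (F.obj.map (homOfLE inf_le_left).op s₂) fun y hyA hyB => (Set.disjoint_left.1 hN hyA.2 hyB.2).elim
      obtain ⟨d, hdL, hdR⟩ := glue₂ F (A := A ⊔ B) (B := W) c
        (F.obj.map (homOfLE (show W ≤ U₁ from fun y hy => hy.1)).op s₁) fun y hy hyW => by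
          rw [germ_res]
          rcases hy with hy | hy
          · rw [hcA y hy, germ_res]
          · rw [hcB y hy, germ_res]
            obtain ⟨-, -, e⟩ := hyW
            exact e.symm
      refine ⟨A ⊔ B ⊔ W, ?_, d, ?_⟩
      · rintro y (hy | hy) <;> by_cases hW : y ∈ W
        · exact Or.inr hW
        · exact Or.inl (Or.inl ⟨hU₁ hy, hAN ⟨hy, hW⟩⟩)
        · exact Or.inr hW
        · exact Or.inl (Or.inr ⟨hU₂ hy, hBN ⟨hy, hW⟩⟩)
      · rintro y (hy | hy) <;> by_cases hW : y ∈ W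
        · rw [hdR y hW, germ_res, hs₁ y hy]
        · have hyA : y ∈ A := ⟨hU₁ hy, hAN ⟨hy, hW⟩⟩
          rw [hdL y (Or.inl hyA), hcA y hyA, germ_res, hs₁ y hy]
        · rw [hdR y hW, germ_res]
          obtain ⟨-, -, e⟩ := hW
          exact e.trans (hs₂ y hy)
        · have hyB : y ∈ B := ⟨hU₂ hy, hBN ⟨hy, hW⟩⟩
          rw [hdL y (Or.inr hyB), hcB y hyB, germ_res, hs₂ y hy]
    · obtain ⟨U, s, hxU, hs⟩ := ht x hx
      obtain ⟨C, hC, hCK, hCU, hCn⟩ := exists_compact_nhdsWithin hK hsep hx U hxU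
      exact ⟨C, hCn, C, hC, subset_rfl, hCK, U, hCU, s, fun y hy => (hs y (hCK hy) (hCU hy)).symm⟩
  obtain ⟨C, -, hKC, hCK, U, hU, s, hs⟩ := key
  exact ⟨U, hKC.trans hU, s, fun x hx => hs x (hKC hx)⟩

end Groth.Agent.SoftSheaf
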