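import Groth.Agent.SoftSheaf.Glue
import Groth.Agent.CohTopLib.Basic

/-! # Soft sheaves on compact Hausdorff spaces, restrictions to compact subsets -/

set_option autoImplicit false
set_option linter.style.haveILetI false

noncomputable section

universe u

open CategoryTheory CategoryTheory.Limits TopologicalSpace Opposite
open scoped Topology

namespace Groth.Agent.SoftSheaf

open Godement

variable {Z : TopCat.{u}}

/-- soft sheaves -/
def IsSoft (F : CohTop.Ab Z) : Prop :=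
  ∀ (K : Set Z), IsClosed K → ∀ t, IsSec F K t → ∃ σ : F.obj.obj (op ⊤), ∀ x (hx : x ∈ K), germ F ⊤ x trivial σ = t x hx

variable [CompactSpace Z] [T2Space Z]

lemma disjoint_nhds_of_t2 (K : Set Z) : ∀ x ∈ K, ∀ y ∈ K, x ≠ y → Disjoint (𝓝 x) (𝓝 y) :=
  fun _ _ _ _ h => disjoint_nhds_nhds.2 h

lemma isSoft_of_isFlasque (F : CohTop.Ab Z) [TopCat.Sheaf.IsFlasque F] : IsSoft F := fun K hK t ht => by
  obtain ⟨U, hU, s, hs⟩ := exists_extend F hK.isCompact (disjoint_nhds_of_t2 K) t ht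
  obtain ⟨σ, hσ⟩ := (AddCommGrpCat.epi_iff_surjective _).1
    (TopCat.Presheaf.IsFlasque.epi (F := F.obj) (homOfLE (le_top : U ≤ ⊤)).op) s
  exact ⟨σ, fun x hx => ((germ_res F le_top x (hU hx) σ).symm.trans (congrArg (germ F U x (hU hx)) hσ)).trans (hs x hx)⟩

variable {T : ShortComplex (CohTop.Ab Z)} (hT : T.ShortExact) (h₁ : IsSoft T.X₁)

include hT h₁ in
/-- sections of a quotient by a soft sheaf lift near closed subsets -/
theorem exists_lift {C₀ : Set Z} (hC₀ : IsClosed C₀) {U : Opens Z} (hU : C₀ ⊆ U) (c : T.X₃.obj.obj (op U)) :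
    ∃ (U' : Opens Z) (_ : C₀ ⊆ U') (hle : U' ≤ U) (b : T.X₂.obj.obj (op U')),
      T.g.hom.app (op U') b = T.X₃.obj.map (homOfLE hle).op c := by
  let Good : Set Z → Prop := fun L => ∃ C, IsClosed C ∧ L ⊆ C ∧
    ∃ (U' : Opens Z) (_ : C ⊆ U') (hle : U' ≤ U) (b : T.X₂.obj.obj (op U')),
      T.g.hom.app (op U') b = T.X₃.obj.map (homOfLE hle).op c
  have key : Good C₀ := by
    refine hC₀.isCompact.induction_on ?_ ?_ ?_ fun x hx => ?_
    · refine ⟨∅, isClosed_empty, subset_rfl, ⊥, Set.empty_subset _, bot_le, 0, ?_⟩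
      exact TopCat.Presheaf.section_ext T.X₃ _ _ _ fun x hx => hx.elim
    · rintro L L' hle ⟨C, hC, hLC, h⟩
      exact ⟨C, hC, hle.trans hLC, h⟩
    · rintro L₁ L₂ ⟨C₁, hC₁, hL₁, U₁, hU₁, hle₁, b₁, hb₁⟩ ⟨C₂, hC₂, hL₂, U₂, hU₂, hle₂, b₂, hb₂⟩
      refine ⟨C₁ ∪ C₂, hC₁.union hC₂, Set.union_subset_union hL₁ hL₂, ?_⟩
      have h0 : T.g.hom.app (op (U₁ ⊓ U₂)) (T.X₂.obj.map (homOfLE (inf_le_left : U₁ ⊓ U₂ ≤ U₁)).op b₁ -
          T.X₂.obj.map (homOfLE (inf_le_right : U₁ ⊓ U₂ ≤ U₂)).op b₂) = 0 := by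
        rw [map_sub, app_res, app_res, hb₁, hb₂, ← ConcreteCategory.comp_apply, ← ConcreteCategory.comp_apply,
          ← Functor.map_comp, ← Functor.map_comp, sub_eq_zero]
        rfl
      obtain ⟨a, ha⟩ := TopCat.Sheaf.sections_exact_of_left_exact hT.exact hT.mono_f _ h0
      obtain ⟨α, hα⟩ := h₁ (C₁ ∩ C₂) (hC₁.inter hC₂)
        (fun y (hy : y ∈ C₁ ∩ C₂) => germ T.X₁ (U₁ ⊓ U₂) y ⟨hU₁ hy.1, hU₂ hy.2⟩ a)
        (fun y hy => ⟨U₁ ⊓ U₂, a, ⟨hU₁ hy.1, hU₂ hy.2⟩, fun _ _ _ => rfl⟩)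
      let b₂' := b₂ + T.X₂.obj.map (homOfLE (le_top : U₂ ≤ ⊤)).op (T.f.hom.app (op ⊤) α)
      have hagree : ∀ y (h₁ : y ∈ C₁) (h₂ : y ∈ C₂),
          germ T.X₂ U₁ y (hU₁ h₁) b₁ = germ T.X₂ U₂ y (hU₂ h₂) b₂' := fun y h₁ h₂ => by
        have e1 := germ_app_eq T.f (U := ⊤) (V := U₁ ⊓ U₂) (x := y) trivial ⟨hU₁ h₁, hU₂ h₂⟩ (hα y ⟨h₁, h₂⟩)
        rw [ha, map_sub, germ_res, germ_res] at e1
        rw [map_add, germ_res, e1, add_sub_cancel]
      have hgb : ∀ y (hy : y ∈ U₂), T.g.hom.app (op U₂) b₂' = T.X₃.obj.map (homOfLE hle₂).op c := fun y hy => by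
        rw [map_add, hb₂, app_res, ← ConcreteCategory.comp_apply (T.f.hom.app (op ⊤)) (T.g.hom.app (op ⊤)),
          ← NatTrans.comp_app, ← ObjectProperty.FullSubcategory.comp_hom, T.zero]
        simp
      classical
      let t : ∀ y, y ∈ C₁ ∪ C₂ → CohTop.stalk T.X₂ y := fun y hy =>
        if h : y ∈ C₁ then germ T.X₂ U₁ y (hU₁ h) b₁ else germ T.X₂ U₂ y (hU₂ (hy.resolve_left h)) b₂'
      have ht : IsSec T.X₂ (C₁ ∪ C₂) t := fun y hy => by
        by_cases h1 : y ∈ C₁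
        · by_cases h2 : y ∈ C₂
          · let W := eqLocus T.X₂ b₁ b₂'
            refine ⟨W, T.X₂.obj.map (homOfLE (show W ≤ U₁ from fun z hz => hz.1)).op b₁,
              ⟨hU₁ h1, hU₂ h2, hagree y h1 h2⟩, fun z hz hzW => ?_⟩
            rw [germ_res]
            obtain ⟨-, -, e⟩ := hzW
            simp only [t]
            split_ifs
            · rfl
            · exact e.symm
          · let W : Opens Z := U₁ ⊓ ⟨C₂ᶜ, hC₂.isOpen_compl⟩
            refine ⟨W, T.X₂.obj.map (homOfLE (inf_le_left : W ≤ U₁)).op b₁, ⟨hU₁ h1, h2⟩, fun z hz hzW => ?_⟩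
            rw [germ_res]
            exact dif_pos (hz.resolve_right hzW.2)
        · let W : Opens Z := U₂ ⊓ ⟨C₁ᶜ, hC₁.isOpen_compl⟩
          refine ⟨W, T.X₂.obj.map (homOfLE (inf_le_left : W ≤ U₂)).op b₂', ⟨hU₂ (hy.resolve_left h1), h1⟩,
            fun z hz hzW => ?_⟩
          rw [germ_res]
          exact dif_neg hzW.2
      obtain ⟨V, hV, b, hb⟩ := exists_extend T.X₂ (hC₁.union hC₂).isCompact (disjoint_nhds_of_t2 _) t ht
      let W := eqLocus T.X₃ (T.g.hom.app (op V) b) c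
      refine ⟨W, fun y hy => ⟨hV hy, hy.elim (fun h => hle₁ (hU₁ h)) (fun h => hle₂ (hU₂ h)), ?_⟩,
        fun y hy => hy.2.1, T.X₂.obj.map (homOfLE (show W ≤ V from fun y hy => hy.1)).op b, ?_⟩
      · have e := hb y hy
        simp only [t] at e
        split_ifs at e with h
        · refine (germ_app_eq T.g _ (hU₁ h) e).trans ?_
          rw [hb₁, germ_res]
        · refine (germ_app_eq T.g _ (hU₂ (hy.resolve_left h)) e).trans ?_
          rw [hgb y (hU₂ (hy.resolve_left h)), germ_res]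
      · refine TopCat.Presheaf.section_ext T.X₃ _ _ _ fun y hy => ?_
        show germ T.X₃ W y hy _ = germ T.X₃ W y hy _
        rw [app_res, germ_res, germ_res]
        exact hy.2.2
    · obtain ⟨W, hWU, ⟨b, hb⟩, hxW⟩ := (TopCat.Presheaf.isLocallySurjective_iff T.g.hom).mp
        ((CategoryTheory.Sheaf.isLocallySurjective_iff_epi' (φ := T.g)).mpr hT.epi_g) U c x (hU hx)
      obtain ⟨C, hC, hCK, hCW, hCn⟩ := exists_compact_nhdsWithin hC₀.isCompact (disjoint_nhds_of_t2 _) hx W hxW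
      exact ⟨C, hCn, C, hC.isClosed, subset_rfl, W, hCW, hWU, b, hb⟩
  obtain ⟨C, -, hCC, U', hU', hle, b, hb⟩ := key
  exact ⟨U', hCC.trans hU', hle, b, hb⟩

include hT h₁ in
theorem surjective_sections : Function.Surjective (T.g.hom.app (op ⊤)) := fun c => by
  obtain ⟨U', hU', hle, b, hb⟩ := exists_lift hT h₁ (C₀ := Set.univ) isClosed_univ (U := ⊤) (fun _ _ => trivial) c
  obtain rfl : U' = ⊤ := eq_top_iff.2 fun x _ => hU' trivial
  exact ⟨b, hb.trans (ConcreteCategory.congr_hom (T.X₃.obj.map_id (op ⊤)) c)⟩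

include hT h₁ in
theorem isSoft_cokernel (h₂ : IsSoft T.X₂) : IsSoft T.X₃ := fun K hK t ht => by
  obtain ⟨U, hU, c, hc⟩ := exists_extend T.X₃ hK.isCompact (disjoint_nhds_of_t2 K) t ht
  obtain ⟨U', hU', hle, b, hb⟩ := exists_lift hT h₁ hK hU c
  obtain ⟨β, hβ⟩ := h₂ K hK (fun y hy => germ T.X₂ U' y (hU' hy) b) fun y hy => ⟨U', b, hU' hy, fun _ _ _ => rfl⟩
  refine ⟨T.g.hom.app (op ⊤) β, fun x hx => ?_⟩
  refine (germ_app_eq T.g (U := ⊤) trivial (hU' hx) (hβ x hx)).trans ?_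
  rw [hb, germ_res, hc x hx]

open CohTopLib in
/-- soft sheaves are acyclic -/
theorem subsingleton_HU_of_isSoft (n : ℕ) : ∀ (F : CohTop.Ab Z), IsSoft F → Subsingleton (CohTop.HU F (n + 1) ⊤) := by
  induction n with
  | zero =>
    intro F hF
    have hT := QCohBase.CovSystem.injSeq_shortExact F
    refine subsingleton_of_forall_eq 0 fun x => ?_
    obtain ⟨y, rfl⟩ := huDelta_surjective hT 0 ⊤ (subsingleton_HU_injective _ 0 ⊤) x
    obtain ⟨s, rfl⟩ := (hu0 _ ⊤).symm.surjective y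
    exact (huDelta_zero_iff hT ⊤ s).2 (surjective_sections hT hF s)
  | succ n ih =>
    intro F hF
    have hT := QCohBase.CovSystem.injSeq_shortExact F
    haveI := FlasqueAcyclic.isFlasque_of_injective (QCohBase.CovSystem.injSeq F).X₂
    have := ih _ (isSoft_cokernel hT hF (isSoft_of_isFlasque _))
    exact (huDelta_surjective hT (n + 1) ⊤ (subsingleton_HU_injective _ _ ⊤)).subsingleton

end Groth.Agent.SoftSheaf
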